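import Mathlib
import Cfsg.Agent.Helper90.HTDefs

set_option autoImplicit false

/-!
# S5953 piece DETINV (helper96, doubling): the determinant of an involution.
-/

namespace Cfsg.Agent.Helper96.HT5953

open Module Polynomial Cfsg.Agent.Helper90.HT

section geom

variable {F : Type*} [Field F] {V : Type*} [AddCommGroup V] [Module F V] [FiniteDimensional F V]
  (σ : F →+* F) (h : V → V → F)

theorem detinv_isCompl (T : Module.End F V) (h2 : (2 : F) ≠ 0) (hT2 : T ^ 2 = 1) :
    IsCompl (LinearMap.ker (T - 1)) (LinearMap.ker (T + 1)) := by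
  have hTT : ∀ v, T (T v) = v := by
    intro v
    have := congrArg (fun f : Module.End F V => f v) hT2
    simpa [pow_two] using this
  constructor
  · rw [Submodule.disjoint_def]
    intro v h1 h3
    rw [LinearMap.mem_ker] at h1 h3
    have e1 : T v = v := by
      have : T v - v = 0 := by
        rw [LinearMap.sub_apply, Module.End.one_apply] at h1
        exact h1
      exact sub_eq_zero.mp this
    have e2 : T v = -v := by
      have : T v + v = 0 := by
        rw [LinearMap.add_apply, Module.End.one_apply] at h3
        exact h3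
      exact eq_neg_of_add_eq_zero_left this
    have e3 : (2 : F) • v = 0 := by
      rw [two_smul]
      have : v = -v := e1.symm.trans e2
      exact eq_neg_iff_add_eq_zero.mp this
    rcases smul_eq_zero.mp e3 with h | h
    · exact absurd h h2
    · exact h
  · rw [codisjoint_iff, eq_top_iff]
    intro v _
    have hv : v = (2 : F)⁻¹ • (v + T v) + (2 : F)⁻¹ • (v - T v) := by
      rw [← smul_add]
      have : v + T v + (v - T v) = (2 : F) • v := by
        rw [two_smul]; abel
      rw [this, smul_smul, inv_mul_cancel₀ h2, one_smul]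
    rw [hv]
    refine Submodule.add_mem_sup (Submodule.smul_mem _ _ ?_) (Submodule.smul_mem _ _ ?_)
    · rw [LinearMap.mem_ker]
      simp only [LinearMap.sub_apply, Module.End.one_apply, map_add, hTT]
      abel
    · rw [LinearMap.mem_ker]
      simp only [LinearMap.add_apply, Module.End.one_apply, map_sub, hTT]
      abel

/-- DETINV: the determinant of an involution. -/
theorem ht_det_inv (T : Module.End F V) (h2 : (2 : F) ≠ 0) (hT2 : T ^ 2 = 1) :
    LinearMap.det T = (-1) ^ finrank F (LinearMap.ker (T + 1)) := by
  have hc := detinv_isCompl T h2 hT2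
  set E₁ := LinearMap.ker (T - 1) with hE₁
  set E₂ := LinearMap.ker (T + 1) with hE₂
  let e : (E₁ × E₂) ≃ₗ[F] V := Submodule.prodEquivOfIsCompl E₁ E₂ hc
  have hT : T = (e : (E₁ × E₂) →ₗ[F] V) ∘ₗ
      (LinearMap.prodMap (LinearMap.id : E₁ →ₗ[F] E₁) ((-1 : F) • (LinearMap.id : E₂ →ₗ[F] E₂))) ∘ₗ
      (e.symm : V →ₗ[F] (E₁ × E₂)) := by
    apply LinearMap.ext
    intro v
    obtain ⟨⟨a, b⟩, rfl⟩ := e.surjective v
    simp only [LinearMap.comp_apply, LinearEquiv.coe_coe, LinearEquiv.symm_apply_apply,
      LinearMap.prodMap_apply, LinearMap.id_apply, LinearMap.smul_apply]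
    simp only [e, Submodule.coe_prodEquivOfIsCompl']
    have ha : T (a : V) = a := by
      have h0 : (T - 1) (a : V) = 0 := LinearMap.mem_ker.mp a.2
      rw [LinearMap.sub_apply, Module.End.one_apply] at h0
      exact sub_eq_zero.mp h0
    have hb : T (b : V) = -b := by
      have h0 : (T + 1) (b : V) = 0 := LinearMap.mem_ker.mp b.2
      rw [LinearMap.add_apply, Module.End.one_apply] at h0
      exact eq_neg_of_add_eq_zero_left h0
    rw [map_add, ha, hb]
    simp
  rw [hT, LinearMap.det_conj, LinearMap.det_prodMap, LinearMap.det_id, LinearMap.det_smul,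
    LinearMap.det_id, one_mul, mul_one]

end geom

end Cfsg.Agent.Helper96.HT5953
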