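import Mathlib
import Cfsg.Agent.Helper90.HTDefs
import Cfsg.Agent.Helper47.HTHORTH
import Cfsg.Agent.Helper58.TICOMPL

set_option autoImplicit false

/-!
# S5953 piece HMAX (helper96, doubling): a maximal invariant totally isotropic subspace of a
nondegenerate invariant subspace `D`, with an invariant complement in its perp.
(Hermitian copy of Helper59.TIMAXTI.ti_max.)
-/

namespace Cfsg.Agent.Helper96.HT5953

open Module Polynomial Cfsg.Agent.Helper90.HT

section geom2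

variable {F : Type*} [Field F] {V : Type*} [AddCommGroup V] [Module F V] [FiniteDimensional F V]
  (σ : F →+* F) (h : V → V → F)

/-- HMAX (uses HORTH, Helper58 ti_compl): a maximal invariant t.i. subspace of `D` and an
invariant complement of it in its perp. -/
theorem ht_max (hh : IsHerm σ h) (T : Module.End F V) (hT : HPres h T) (N : ℕ)
    (hN : (N : F) ≠ 0) (hTN : T ^ N = 1) (D : Submodule F V) (hDT : D.map T ≤ D)
    (hD : HNondegOn h D) :
    ∃ W U : Submodule F V, W ≤ D ∧ U ≤ D ∧ HTI h W ∧ W.map T ≤ W ∧ U.map T ≤ U ∧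
      finrank F D = 2 * finrank F W + finrank F U ∧
      ∀ W' : Submodule F V, W' ≤ U → HTI h W' → W'.map T ≤ W' → W' = ⊥ := by
  classical
  -- the set of dimensions of invariant t.i. subspaces of `D`
  have hex : ∃ k, ∃ W : Submodule F V, W ≤ D ∧ HTI h W ∧ W.map T ≤ W ∧ finrank F W = k :=
    ⟨0, ⊥, bot_le, fun u hu v _ => by
      rw [Submodule.mem_bot] at hu; rw [hu]; exact hh.zero_left v, by simp, by simp⟩
  have hbd : ∀ k, (∃ W : Submodule F V, W ≤ D ∧ HTI h W ∧ W.map T ≤ W ∧ finrank F W = k) →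
      k ≤ finrank F V := by
    rintro k ⟨W, -, -, -, rfl⟩
    exact Submodule.finrank_le W
  obtain ⟨W, hWD, hWTI, hWT, hWmax⟩ : ∃ W : Submodule F V, W ≤ D ∧ HTI h W ∧ W.map T ≤ W ∧
      ∀ W₂ : Submodule F V, W₂ ≤ D → HTI h W₂ → W₂.map T ≤ W₂ → finrank F W₂ ≤ finrank F W := by
    obtain ⟨W, h1, h2, h3, h4⟩ := Nat.findGreatest_spec (P := fun k => ∃ W : Submodule F V,
      W ≤ D ∧ HTI h W ∧ W.map T ≤ W ∧ finrank F W = k) (hbd _ hex.choose_spec) hex.choose_spec
    refine ⟨W, h1, h2, h3, fun W₂ hW₂D hW₂TI hW₂T => ?_⟩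
    rw [h4]
    exact Nat.le_findGreatest (hbd _ ⟨W₂, hW₂D, hW₂TI, hW₂T, rfl⟩) ⟨W₂, hW₂D, hW₂TI, hW₂T, rfl⟩
  -- the inverse of `T` on invariant subspaces
  have hNpos : 0 < N := by
    rcases Nat.eq_zero_or_pos N with h0 | h0
    · rw [h0] at hN; simp at hN
    · exact h0
  have hinv : ∀ v, T ((T ^ (N - 1)) v) = v := by
    intro v
    have h0 : T * T ^ (N - 1) = 1 := by
      rw [← pow_succ', Nat.sub_add_cancel hNpos, hTN]
    have h2 := congrArg (fun S : Module.End F V => S v) h0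
    simpa using h2
  have hpowmem : ∀ (X : Submodule F V), X.map T ≤ X → ∀ k : ℕ, ∀ v ∈ X, (T ^ k) v ∈ X := by
    intro X hX k
    induction k with
    | zero => intro v hv; simpa using hv
    | succ k ih =>
      intro v hv
      rw [pow_succ']
      exact hX ⟨_, ih v hv, rfl⟩
  -- the perp of `W` in `D`
  obtain ⟨P, hP, hdim⟩ := Cfsg.Agent.Helper47.HT5953.ht_orth σ h hh D W hD hWD
  have hWP : W ≤ P := fun v hv => (hP v).mpr ⟨hWD hv, fun w hw => hWTI v hv w hw⟩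
  have hPD : P ≤ D := fun v hv => ((hP v).mp hv).1
  have hPT : P.map T ≤ P := by
    rintro _ ⟨v, hv, rfl⟩
    obtain ⟨hvD, hvW⟩ := (hP v).mp hv
    refine (hP _).mpr ⟨hDT ⟨v, hvD, rfl⟩, fun w hw => ?_⟩
    have h1 : h (T v) w = h (T v) (T ((T ^ (N - 1)) w)) := by rw [hinv]
    rw [h1, hT]
    exact hvW _ (hpowmem W hWT (N - 1) w hw)
  obtain ⟨U, hUP, hUT, hWU, hWUP⟩ :=
    Cfsg.Agent.Helper58.TI5955.ti_compl T N hN hTN W P hWP hWT hPT
  have hdimP : finrank F P = finrank F W + finrank F U := by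
    have h0 := Submodule.finrank_sup_add_finrank_inf_eq W U
    rw [hWU, hWUP, finrank_bot] at h0
    omega
  refine ⟨W, U, hWD, hUP.trans hPD, hWTI, hWT, hUT, by omega, ?_⟩
  intro W' hW'U hW'TI hW'T
  -- `W ⊔ W'` is invariant and t.i.
  have hsupTI : HTI h (W ⊔ W') := by
    intro u hu v hv
    obtain ⟨u₁, hu₁, u₂, hu₂, rfl⟩ := Submodule.mem_sup.mp hu
    obtain ⟨v₁, hv₁, v₂, hv₂, rfl⟩ := Submodule.mem_sup.mp hv
    have h12 : h u₁ v₂ = 0 :=
      hh.eq_zero_symm (((hP v₂).mp (hUP (hW'U hv₂))).2 u₁ hu₁)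
    have h21 : h u₂ v₁ = 0 := ((hP u₂).mp (hUP (hW'U hu₂))).2 v₁ hv₁
    rw [hh.add_left, hh.add_right, hh.add_right, hWTI u₁ hu₁ v₁ hv₁, hW'TI u₂ hu₂ v₂ hv₂, h12, h21]
    simp
  have hsupT : (W ⊔ W').map T ≤ W ⊔ W' := by
    rw [Submodule.map_sup]
    exact sup_le_sup hWT hW'T
  have hsupD : W ⊔ W' ≤ D := sup_le hWD ((hW'U.trans hUP).trans hPD)
  have hmax := hWmax (W ⊔ W') hsupD hsupTI hsupT
  have hinf : W ⊓ W' = ⊥ := by
    apply le_bot_iff.mp
    rw [← hWU]
    exact inf_le_inf_left W hW'U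
  have h0 := Submodule.finrank_sup_add_finrank_inf_eq W W'
  rw [hinf, finrank_bot] at h0
  have h00 : finrank F W' = 0 := by omega
  exact Submodule.finrank_eq_zero.mp h00

end geom2

end Cfsg.Agent.Helper96.HT5953
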