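import Mathlib
import Cfsg.Agent.Helper90.HTDefs

set_option autoImplicit false

/-!
# S5953 piece HNEG (helper96, doubling): `T² = y²` with `y σ(y) = -1`.
-/

namespace Cfsg.Agent.Helper96.HT5953

open Module Polynomial Cfsg.Agent.Helper90.HT

section geom

variable {F : Type*} [Field F] {V : Type*} [AddCommGroup V] [Module F V] [FiniteDimensional F V]
  (σ : F →+* F) (h : V → V → F)

/-- a subspace of given dimension -/
theorem hneg_exists_sub (W : Submodule F V) (a : ℕ) (ha : a ≤ finrank F W) :
    ∃ A : Submodule F V, A ≤ W ∧ finrank F A = a := by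
  classical
  let b := Module.finBasis F W
  refine ⟨Submodule.span F (Set.range fun j : Fin a => (b (Fin.castLE ha j) : V)), ?_, ?_⟩
  · rw [Submodule.span_le]
    rintro _ ⟨j, rfl⟩
    exact (b _).2
  · have hli : LinearIndependent F (fun j : Fin a => (b (Fin.castLE ha j) : V)) := by
      have h1 : LinearIndependent F (fun j : Fin a => b (Fin.castLE ha j)) :=
        b.linearIndependent.comp _ (Fin.castLE_injective ha)
      exact h1.map' W.subtype (Submodule.ker_subtype W)
    rw [finrank_span_eq_card hli, Fintype.card_fin]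

omit [FiniteDimensional F V] in
/-- an eigenspace for an eigenvalue `c` with `c σ(c) = -1` is totally isotropic -/
theorem hneg_eig_ti (hh : IsHerm σ h) (T : Module.End F V) (hT : HPres h T) (h2 : (2 : F) ≠ 0)
    (c : F) (hc : c * σ c = -1) (E : Submodule F V) (hE : ∀ v ∈ E, T v = c • v) :
    HTI h E := by
  intro u hu v hv
  have h1 : h u v = c * σ c * h u v := by
    have := hT u v
    rw [hE u hu, hE v hv, hh.smul_left, hh.smul_right] at this
    rw [mul_assoc]; exact this.symm
  rw [hc] at h1
  have h3 : (2 : F) * h u v = 0 := by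
    have : h u v + h u v = 0 := by
      nth_rewrite 1 [h1]; ring
    rw [two_mul]; exact this
  rcases mul_eq_zero.mp h3 with h4 | h4
  · exact absurd h4 h2
  · exact h4

/-- HNEG: `T² = y²` with `y σ(y) = -1`: the eigenspaces are totally isotropic. -/
theorem ht_neg (hh : IsHerm σ h) (T : Module.End F V) (hT : HPres h T) (h2 : (2 : F) ≠ 0) (y : F)
    (hy : y * σ y = -1) (hT2 : T ^ 2 = (y ^ 2) • (1 : Module.End F V)) :
    ∀ m, 2 * m ≤ finrank F V → ∃ W : Submodule F V, finrank F W = m ∧ HTI h W ∧ W.map T ≤ W := by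
  intro m hm
  have hy0 : y ≠ 0 := by
    rintro rfl
    simp at hy
  have hTT : ∀ v, T (T v) = (y ^ 2) • v := by
    intro v
    have := congrArg (fun f : Module.End F V => f v) hT2
    simpa [pow_two] using this
  -- the two eigenspaces
  let E₁ : Submodule F V := LinearMap.ker (T - y • (1 : Module.End F V))
  let E₂ : Submodule F V := LinearMap.ker (T + y • (1 : Module.End F V))
  have hE₁ : ∀ v ∈ E₁, T v = y • v := by
    intro v hv
    have h0 : (T - y • (1 : Module.End F V)) v = 0 := LinearMap.mem_ker.mp hv
    rw [LinearMap.sub_apply, LinearMap.smul_apply, Module.End.one_apply] at h0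
    exact sub_eq_zero.mp h0
  have hE₂ : ∀ v ∈ E₂, T v = (-y) • v := by
    intro v hv
    have h0 : (T + y • (1 : Module.End F V)) v = 0 := LinearMap.mem_ker.mp hv
    rw [LinearMap.add_apply, LinearMap.smul_apply, Module.End.one_apply] at h0
    rw [neg_smul]
    exact eq_neg_of_add_eq_zero_left h0
  have hsup : E₁ ⊔ E₂ = ⊤ := by
    rw [eq_top_iff]
    intro v _
    have h2y : (2 * y : F) ≠ 0 := mul_ne_zero h2 hy0
    have hv : v = (2 * y : F)⁻¹ • (T v + y • v) + (2 * y : F)⁻¹ • (y • v - T v) := by
      rw [← smul_add]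
      have : T v + y • v + (y • v - T v) = (2 * y : F) • v := by
        rw [mul_smul, two_smul]; abel
      rw [this, smul_smul, inv_mul_cancel₀ h2y, one_smul]
    rw [hv]
    refine Submodule.add_mem_sup (Submodule.smul_mem _ _ ?_) (Submodule.smul_mem _ _ ?_)
    · show T v + y • v ∈ LinearMap.ker (T - y • (1 : Module.End F V))
      rw [LinearMap.mem_ker]
      simp only [LinearMap.sub_apply, LinearMap.smul_apply, Module.End.one_apply, map_add,
        map_smul, hTT]
      module
    · show y • v - T v ∈ LinearMap.ker (T + y • (1 : Module.End F V))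
      rw [LinearMap.mem_ker]
      simp only [LinearMap.add_apply, LinearMap.smul_apply, Module.End.one_apply, map_sub,
        map_smul, hTT]
      module
  have hdim : finrank F V ≤ finrank F E₁ + finrank F E₂ := by
    have h1 := Submodule.finrank_add_le_finrank_add_finrank E₁ E₂
    rw [hsup, finrank_top] at h1
    exact h1
  have hy' : (-y) * σ (-y) = -1 := by
    rw [map_neg, neg_mul_neg, hy]
  have key : ∀ (E : Submodule F V) (c : F), c * σ c = -1 → (∀ v ∈ E, T v = c • v) →
      m ≤ finrank F E → ∃ W : Submodule F V, finrank F W = m ∧ HTI h W ∧ W.map T ≤ W := by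
    intro E c hc hE hmE
    obtain ⟨W, hWE, hWm⟩ := hneg_exists_sub E m hmE
    refine ⟨W, hWm, ?_, ?_⟩
    · have hti := hneg_eig_ti σ h hh T hT h2 c hc E hE
      intro u hu v hv
      exact hti u (hWE hu) v (hWE hv)
    · rintro _ ⟨w, hw, rfl⟩
      rw [hE w (hWE hw)]
      exact Submodule.smul_mem _ _ hw
  by_cases hm1 : m ≤ finrank F E₁
  · exact key E₁ y hy hE₁ hm1
  · exact key E₂ (-y) hy' hE₂ (by omega)

end geom

end Cfsg.Agent.Helper96.HT5953
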