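import Mathlib
import Cfsg.Agent.Helper96.OHDefs
import Cfsg.Agent.Helper31.OHOPAIR
import Cfsg.Agent.Helper37.OHONOODD
import Cfsg.Agent.Helper3.OHOAEA

set_option autoImplicit false
set_option linter.unusedSectionVars false
set_option linter.unusedVariables false

/-!
# S5992 piece OATOM (helper96): atoms of dimension `c`.
-/

namespace Cfsg.Agent.Helper96.OH5992

open Module Polynomial Cfsg Cfsg.Geo
open Cfsg.Agent.Helper13.TIu Cfsg.Agent.Helper96.OH
open Cfsg.Agent.Helper31.OH5992 Cfsg.Agent.Helper37.OH5992 Cfsg.Agent.Helper3.OH5992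

variable {ι : Type} [Fintype ι] [DecidableEq ι] {F : Type*} [Field F] (Q : (ι → F) → F)

/-- OATOM (uses OPAIR, ONOODD, OAEA). -/
theorem o_atom [Fintype F] (hQ : IsNondegenerateQuadraticForm Q) (h2 : (2 : F) ≠ 0)
    (T : Module.End F (ι → F)) (hT : OPres Q T) (r : ℕ) [Fact r.Prime] (hr2 : 2 < r)
    (hrF : (r : F) ≠ 0) (hTr : T ^ r = 1) (i c : ℕ)
    (hi : i = orderOf ((Fintype.card F : ℕ) : ZMod r)) (hc : c = if Even i then i else 2 * i)
    (N : Submodule F (ι → F)) (hNT : N.map T ≤ N) (hN : ONd Q N) (hN0 : N ≠ ⊥)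
    (hNk : N ⊓ LinearMap.ker (T - 1) = ⊥) :
    ∃ E : Submodule F (ι → F), E ≤ N ∧ E.map T ≤ E ∧ ONd Q E ∧ finrank F E = c := by
  subst hi
  have hrpr : r.Prime := Fact.out
  rcases o_hyp_pair Q hQ T hT r hrF hTr N hNT hN hN0 hNk with
    ⟨U₁, h1, h2', h3, h4⟩ | ⟨E₂, h1, h2', h3, h4⟩
  · by_cases hie : Even (orderOf ((Fintype.card F : ℕ) : ZMod r))
    · exact ⟨U₁, h1, h2', h3, by rw [hc, if_pos hie, h4]⟩
    · exfalso
      have hodd : Odd (finrank F U₁) := by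
        rw [h4]
        exact Nat.not_even_iff_odd.mp hie
      have hrodd : Odd r := hrpr.odd_of_ne_two (by omega)
      apply o_no_odd Q hQ h2 T hT r hrodd hTr U₁ h2' h3 hodd
      rw [eq_bot_iff]
      exact (inf_le_inf_right _ h1).trans (le_of_eq hNk)
  · by_cases hie : Even (orderOf ((Fintype.card F : ℕ) : ZMod r))
    · have hEk : E₂ ⊓ LinearMap.ker (T - 1) = ⊥ := by
        rw [eq_bot_iff]
        exact (inf_le_inf_right _ h1).trans (le_of_eq hNk)
      obtain ⟨E, hE1, hE2, hE3, hE4⟩ :=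
        o_atom_even Q hQ h2 T hT r hr2 hrF hTr hie E₂ h2' h3 hEk h4
      exact ⟨E, hE1.trans h1, hE2, hE3, by rw [hc, if_pos hie, hE4]⟩
    · exact ⟨E₂, h1, h2', h3, by rw [hc, if_neg hie, h4]⟩

end Cfsg.Agent.Helper96.OH5992
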