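import Mathlib
import Cfsg.Prelude.Def_GeometricClasses
import Cfsg.Prelude.Def_Classical
import Cfsg.Agent.Helper65.S74Defs
import Cfsg.Agent.Helper35.TSSTDP
import Cfsg.Agent.Helper80.S88SCAL
import Cfsg.Agent.Helper97.OForm
import Cfsg.Agent.Helper96.OHAux
import Cfsg.Agent.Helper96.S74Good

set_option autoImplicit false
set_option linter.unusedSectionVars false
set_option linter.unusedVariables false

/-!
# CALL S74 (row S5974), stage OOG (helper96): `s74_odd_good`, verbatim.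
-/

namespace Cfsg.Agent.Helper96.S74

open Module Cfsg Cfsg.Geo Cfsg.Agent.Helper65.S74
open Cfsg.Agent.Helper96.OH Cfsg.Agent.Helper96.OHAux Cfsg.Agent.Helper96.S74G
open scoped MatrixGroups

variable {F : Type*} [Field F] [Fintype F]

/-- OOG. -/
theorem s74_odd_good {p : ℕ} [Fact p.Prime] [CharP F p] {q : ℕ} (hq : Fintype.card F = q)
    (d m : ℕ) (hd : 4 ≤ d) (hm : 2 ≤ m) (hme : Even m) (hmd : m < d) (r : ℕ) [Fact r.Prime]
    (hr2 : 2 < r) (hrp : r ≠ p) (i : ℕ) (hi : i = orderOf (q : ZMod r)) (hodd : Odd i)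
    (hcond : 2 * i ≤ m ∧ m % (2 * i) ≤ (2 * d) % (2 * i)) :
    AllHyp (Cfsg.quadFormPlus d F) r m := by
  classical
  subst hq
  have hrpr : r.Prime := Fact.out
  have hrodd : Odd r := hrpr.odd_of_ne_two (by omega)
  have hrF : (r : F) ≠ 0 := oh_rF p r hrp
  have hQ := (Cfsg.Agent.Helper35.TS5973.ts_std_plus (F := F) d).1
  have hpl := (Cfsg.Agent.Helper35.TS5973.ts_std_plus (F := F) d).2
  have hcard : Fintype.card (Fin d ⊕ Fin d) = 2 * d := by simp; omega
  intro x hx hxr hns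
  have hxiso := Cfsg.Agent.Helper97.Gen.omegaGL_le _ hx
  obtain ⟨x', hx', hx'r, hx'1, htrans, -⟩ :=
    Cfsg.Agent.Helper80.S88.s88_scal (Cfsg.quadFormPlus d F) hQ r hrodd x hxiso hxr hns
  have hT := oh_opres_toLin' (Cfsg.quadFormPlus d F) x' hx'
  have hTr : Matrix.toLin' (x' : Matrix (Fin d ⊕ Fin d) (Fin d ⊕ Fin d) F) ^ r = 1 := by
    have h2 : (x' : Matrix (Fin d ⊕ Fin d) (Fin d ⊕ Fin d) F) ^ r = 1 := by
      rw [← Units.val_pow_eq_pow_val, hx'r]; rfl
    rw [oh_toLin'_pow_eq, h2, Matrix.toLin'_one]; rfl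
  obtain ⟨W, hW, hWinv⟩ :=
    s74g_odd_good (Cfsg.quadFormPlus d F) hQ d m hcard hpl hme hmd _ hT r hr2 hrF hTr i hi hodd
      hcond
  exact (invHyp_iff (Cfsg.quadFormPlus d F) _ m).mpr ⟨W, hW, htrans W hWinv⟩

end Cfsg.Agent.Helper96.S74
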