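import Mathlib
import Cfsg.Prelude.Def_GeometricClasses
import Cfsg.Prelude.Def_Classical
import Cfsg.Agent.Helper35.S88Defs
import Cfsg.Agent.Helper35.TSSTDP
import Cfsg.Agent.Helper86.S88CAU
import Cfsg.Agent.Helper86.S88NDIV
import Cfsg.Agent.Helper50.S88ORD
import Cfsg.Agent.Helper96.S88BadOf
import Cfsg.Agent.Helper96.S88BadEl

set_option autoImplicit false
set_option linter.unusedSectionVars false
set_option linter.unusedVariables false

/-!
# CALL S88 (row S5988), stage OEB (helper96): `s88_even_bad`, verbatim.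

Assembled from CAU (helper86), ORD (helper50), NDIV (helper86), the reduction `s88_even_bad_of`
(`Helper96.S88BadOf`) and the bad elements `s88_bad_even` (`Helper96.S88BadEl`).
-/

namespace Cfsg.Agent.Helper96.S88

open Module Cfsg Cfsg.Geo Cfsg.Agent.Helper35.S88
open scoped MatrixGroups

variable {F : Type*} [Field F] [Fintype F]

/-- OEB. -/
theorem s88_even_bad {p : ℕ} [Fact p.Prime] [CharP F p] {q : ℕ} (hq : Fintype.card F = q)
    (d m : ℕ) (hd : 4 ≤ d) (hm : 2 ≤ m) (hme : Even m) (hmd : m < d) (r : ℕ) [Fact r.Prime]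
    (hr2 : 2 < r) (hrp : r ≠ p) (i : ℕ) (hi : i = orderOf (q : ZMod r)) (heven : Even i)
    (hrΩ : r ∣ Nat.card {W : Submodule F (Fin d ⊕ Fin d → F) // Module.finrank F ↥W = m ∧
      Cfsg.Geo.IsNondegenerateOn (QuadraticMap.polar (Cfsg.quadFormPlus d F)) W ∧
      ¬ Cfsg.Geo.IsPlusTypeOn (Cfsg.quadFormPlus d F) W})
    (hall : AllEll (Cfsg.quadFormPlus d F) r m) :
    ((2 * d) % i = 0 ∧ (Odd ((2 * d) / i) ∨ (m % i = 0 ∧ Odd (m / i)))) ∨
      (i ≤ m ∧ ((0 < m % i ∧ m % i < (2 * d) % i) ∨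
        (0 < m % i ∧ m % i = (2 * d) % i ∧ Odd ((2 * d + m - 2 * ((2 * d) % i)) / i)) ∨
        (m % i = 0 ∧ 0 < (2 * d) % i ∧ Odd (m / i)))) := by
  classical
  have hQ := (Cfsg.Agent.Helper35.TS5973.ts_std_plus (F := F) d).1
  have hpl := (Cfsg.Agent.Helper35.TS5973.ts_std_plus (F := F) d).2
  have hcard : Fintype.card (Fin d ⊕ Fin d) = 2 * d := by simp; omega
  have hc : i = if Even i then i else 2 * i := by rw [if_pos heven]
  obtain ⟨x0, hx0, hx0r, hx01⟩ :=
    Cfsg.Agent.Helper86.S88.s88_cauchy (Cfsg.quadFormPlus d F) hQ d m hcard hpl hm hme hmd r hrΩ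
  have hid : i ≤ 2 * d :=
    Cfsg.Agent.Helper50.S88.s88_ord hq (Cfsg.quadFormPlus d F) hQ d hcard r hr2 hrp i i hi hc
      x0 hx0 hx0r hx01
  refine s88_even_bad_of hq d m hme r hr2 hrp i hi heven ?_ ?_ hall
  · intro hadm
    exact Cfsg.Agent.Helper96.S88E.s88_bad_even p d hd r hr2 hrp i (by rw [hq]; exact hi)
      heven hid hadm
  · intro hlt hk
    refine Cfsg.Agent.Helper86.S88.s88_ndiv hq (Cfsg.quadFormPlus d F) hQ d m hcard hpl hm hme
      hmd r hr2 hrp i i hi hc hlt hid ?_ hrΩ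
    rcases hk with h | ⟨h1, h2⟩
    · exact Or.inl h
    · exact Or.inr ⟨heven, h1, h2⟩

end Cfsg.Agent.Helper96.S88
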