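import Mathlib
import Cfsg.Agent.Helper13.TLDefs
import Cfsg.Agent.Helper20.TLUXFER

set_option autoImplicit false

/-!
# S5954 piece UXFERSUB (helper96, doubling): a nondegenerate subspace of a Hermitian space over a
finite field is isometric to the standard Hermitian space of its dimension.
-/

namespace Cfsg.Agent.Helper96.TI5954

open Module Polynomial
open Cfsg.Agent.Helper13.TIu Cfsg.Agent.Helper13.TIsp

section geom2

variable {F : Type*} [Field F] {σ : F →+* F} {V : Type*} [AddCommGroup V] [Module F V]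
  [FiniteDimensional F V] (B : V →ₛₗ[σ] V →ₗ[F] F)

/-- UXFERSUB (uses UXFER on the restricted form `B.domRestrict₁₂ U U`). -/
theorem u_xfer_sub [Finite F] (hσ2 : ∀ a, σ (σ a) = a) (hσne : σ ≠ RingHom.id F) (hS : B.IsSymm)
    (U : Submodule F V) (hU : UNd B U) :
    ∃ Φ : U ≃ₗ[F] (Fin (finrank F U) → F),
      ∀ u v : U, stdH σ (finrank F U) (Φ u) (Φ v) = B (u : V) (v : V) := by
  have hS' : (B.domRestrict₁₂ U U).IsSymm := ⟨fun x y => by
    rw [LinearMap.domRestrict₁₂_apply, LinearMap.domRestrict₁₂_apply]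
    exact hS.eq (x : V) (y : V)⟩
  have hnd' : UNd (B.domRestrict₁₂ U U) ⊤ := by
    intro v _ hv
    have h0 : (v : V) = 0 := hU (v : V) v.2 (fun w hw => by
      have := hv ⟨w, hw⟩ Submodule.mem_top
      rw [LinearMap.domRestrict₁₂_apply] at this
      exact this)
    exact Subtype.ext h0
  obtain ⟨Φ, hΦ⟩ := Cfsg.Agent.Helper20.TI5954.u_xfer (B.domRestrict₁₂ U U) hσ2 hσne hS' hnd'
    (finrank F U) rfl
  refine ⟨Φ, fun u v => ?_⟩
  rw [hΦ u v, LinearMap.domRestrict₁₂_apply]

end geom2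

end Cfsg.Agent.Helper96.TI5954
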