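import Mathlib
import Cfsg.Agent.Helper13.TLDefs
import Cfsg.Agent.Helper96.TLUXFERSUB

set_option autoImplicit false

/-!
# S5954 piece UNORMCNT (helper96, doubling): the number of norm-one vectors of a nondegenerate
subspace of a Hermitian space over `F_{q²}`.
-/

namespace Cfsg.Agent.Helper96.TI5954

open Module Polynomial
open Cfsg.Agent.Helper13.TIu Cfsg.Agent.Helper13.TIsp

section geom2

variable {F : Type*} [Field F] {σ : F →+* F} {V : Type*} [AddCommGroup V] [Module F V]
  [FiniteDimensional F V] (B : V →ₛₗ[σ] V →ₗ[F] F)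

/-- UNORMCNT (case D; uses UXFERSUB, `Cfsg.Agent.Helper44.card_normOne`, `stdH x x = hfg σ x x`). -/
theorem u_norm_count [Fintype F] (q : ℕ) (hq : Fintype.card F = q ^ 2) (hσ : ∀ a, σ a = a ^ q)
    (hσ2 : ∀ a, σ (σ a) = a) (hσne : σ ≠ RingHom.id F) (hS : B.IsSymm) (U : Submodule F V)
    (hU : UNd B U) :
    (Nat.card {v : V // v ∈ U ∧ B v v = 1} : ℤ) = Cfsg.Agent.Helper44.unitVal q (finrank F U) := by
  obtain ⟨Φ, hΦ⟩ := u_xfer_sub B hσ2 hσne hS U hU
  have hstd : ∀ x : Fin (finrank F U) → F,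
      stdH σ (finrank F U) x x = Cfsg.Agent.Helper44.hfg σ x x := fun x => rfl
  let e : {v : V // v ∈ U ∧ B v v = 1} ≃
      {x : Fin (finrank F U) → F // Cfsg.Agent.Helper44.hfg σ x x = 1} :=
    { toFun := fun v => ⟨Φ ⟨v.1, v.2.1⟩, by
        rw [← hstd, hΦ]
        exact v.2.2⟩
      invFun := fun x => ⟨(Φ.symm x.1 : V), (Φ.symm x.1).2, by
        have h1 := hΦ (Φ.symm x.1) (Φ.symm x.1)
        rw [LinearEquiv.apply_symm_apply, hstd, x.2] at h1
        exact h1.symm⟩
      left_inv := fun v => by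
        apply Subtype.ext
        simp
      right_inv := fun x => by
        apply Subtype.ext
        simp }
  rw [Nat.card_congr e]
  exact Cfsg.Agent.Helper44.card_normOne hq σ hσ (finrank F U) (Fin (finrank F U))
    (Fintype.card_fin _)

end geom2

end Cfsg.Agent.Helper96.TI5954
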